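import Mathlib
import Cfsg.Agent.Lib.Blocks.FR
import Cfsg.Agent.Lib.Blocks.FMT

/-!
# Lifting central elements of a local subgroup by the relative trace

`lift_trC`: for `y` in the local center of `H` (`(Q, H)` a Brauer pair), if the coefficients of `y` outside the
local ideal sit at elements `k ∈ C_G(Q)` such that `Q^x ≤ H` centralizing `k` forces `x ∈ H`, then the Brauer
map sends the relative trace of `y` to `y`, modulo the local ideal.
-/

set_option linter.unusedSectionVars false
set_option autoImplicit false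
set_option linter.style.haveILetI false

namespace Cfsg.Agent.Lib.BlockCoverN.Lift

open Cfsg MonoidAlgebra
open Cfsg.Agent.Lib.Blocks.Local Cfsg.Agent.Lib.Blocks.Central Cfsg.Agent.Lib.Blocks.Brauer
open Cfsg.Agent.Lib.Blocks.Induced Cfsg.Agent.Lib.Blocks.FR Cfsg.Agent.Lib.Blocks.FMT

universe u

variable {G : Type u} [Group G] [Fintype G] {M : Ideal AlgInt} {p : ℕ} [hMp : M.IsPrime]
  {Q H : Subgroup G} [Fintype H] [Fintype (G ⧸ H)]

theorem incl_out (y : Subalgebra.center ℂ (GA H)) (h x : G) :
    (incl H (y : GA H)).coeff ((QuotientGroup.mk x : G ⧸ H).out⁻¹ * h * (QuotientGroup.mk x : G ⧸ H).out) =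
      (incl H (y : GA H)).coeff (x⁻¹ * h * x) := by
  have h1 : x⁻¹ * (QuotientGroup.mk x : G ⧸ H).out ∈ H := by
    rw [← QuotientGroup.eq, QuotientGroup.out_eq']
  set t := x⁻¹ * (QuotientGroup.mk x : G ⧸ H).out with ht
  have h2 : (QuotientGroup.mk x : G ⧸ H).out = x * t := by rw [ht]; group
  rw [h2]
  have h3 := incl_conj_of_mem (isCentral_of_mem y) t⁻¹ (H.inv_mem h1) (x⁻¹ * h * x)
  rw [← h3]
  congr 1
  group

/-- The relative trace lifts `y`. -/
theorem lift_trC (hM : IsPModular p M) (hP : Cfsg.Agent.Lib.Blocks.Induced.IsBrauerPair p Q H)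
    {y : Subalgebra.center ℂ (GA H)} (hy : y ∈ localCenter M H)
    (hgood : ∀ k : H, ¬ MemLocalIdeal M ((y : GA H).coeff k) →
      (k : G) ∈ Subgroup.centralizer (Q : Set G) ∧
      ∀ x : G, (∀ q ∈ Q, x⁻¹ * q * x ∈ H ∧ (x⁻¹ * q * x) * (k : G) = (k : G) * (x⁻¹ * q * x)) → x ∈ H) :
    Jc M ((brOf hP (trC y) : GA H) - (y : GA H)) := by
  classical
  intro h
  rw [coeff_sub', coeff_brOf]
  by_cases hC : (h : G) ∈ Subgroup.centralizer (Q : Set G)
  · rw [coeff_res_of_mem _ hC, coeff_trC]
    have hRc : Rc M (incl H (y : GA H)) := Rc.incl H (Rc.of_localCenter hy)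
    let f : G ⧸ H → ℂ := fun r => (incl H (y : GA H)).coeff (r.out⁻¹ * h * r.out)
    have hf : ∀ x : G, f (QuotientGroup.mk x) = (incl H (y : GA H)).coeff (x⁻¹ * h * x) :=
      fun x => incl_out y h x
    have hinv : ∀ (q : Q) (r : G ⧸ H), f (q • r) = f r := by
      intro q r
      induction r using QuotientGroup.induction_on with
      | H x =>
        have e : (q • (QuotientGroup.mk x : G ⧸ H)) = QuotientGroup.mk ((q : G) * x) := rfl
        rw [e, hf, hf]
        congr 1
        have hq := Subgroup.mem_centralizer_iff.mp hC q q.2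
        calc ((q : G) * x)⁻¹ * h * ((q : G) * x) = x⁻¹ * ((q : G)⁻¹ * ((h : G) * q)) * x := by group
          _ = x⁻¹ * ((q : G)⁻¹ * (q * (h : G))) * x := by rw [hq]
          _ = _ := by group
    have hQp : IsPGroup p Q := hP.isP
    have key := sum_sub_sum_fixed_mem hM hQp f hinv (fun r => hRc _)
      (Finset.univ.filter (fun r : G ⧸ H => ∀ q : Q, q • r = r)) (by simp)
    have hfix : ∀ x : G, (∀ q : Q, q • (QuotientGroup.mk x : G ⧸ H) = QuotientGroup.mk x) →
        ∀ q ∈ Q, x⁻¹ * q * x ∈ H := by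
      intro x hx q hq
      have h1 := hx ⟨q, hq⟩
      have e : ((⟨q, hq⟩ : Q) • (QuotientGroup.mk x : G ⧸ H)) = QuotientGroup.mk (q * x) := rfl
      rw [e, QuotientGroup.eq] at h1
      have h2 := H.inv_mem h1
      convert h2 using 1
      group
    have h1mem : (QuotientGroup.mk 1 : G ⧸ H) ∈ (Finset.univ.filter (fun r : G ⧸ H => ∀ q : Q, q • r = r)) := by
      simp only [Finset.mem_filter, Finset.mem_univ, true_and]
      intro q
      have e : (q • (QuotientGroup.mk 1 : G ⧸ H)) = QuotientGroup.mk ((q : G) * 1) := rfl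
      rw [e, QuotientGroup.eq]
      simpa using hP.le q.2
    rw [← Finset.add_sum_erase _ f h1mem] at key
    have hf1 : f (QuotientGroup.mk 1) = (y : GA H).coeff h := by
      rw [hf]
      simp only [inv_one, one_mul, mul_one]
      exact coeff_incl_coe H _ h
    rw [hf1] at key
    have hrest : MemLocalIdeal M (∑ r ∈ (Finset.univ.filter (fun r : G ⧸ H => ∀ q : Q, q • r = r)).erase
        (QuotientGroup.mk 1), f r) := by
      refine memLocalIdeal_sum _ _ fun r hr => ?_
      obtain ⟨hr1, hr2⟩ := Finset.mem_erase.mp hr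
      induction r using QuotientGroup.induction_on with
      | H x =>
        rw [hf]
        by_contra hcon
        have hxH : x⁻¹ * h * x ∈ H := by
          by_contra hn
          rw [coeff_incl_of_notMem H _ hn] at hcon
          exact hcon memLocalIdeal_zero
        rw [coeff_incl_of_mem H _ hxH] at hcon
        have hg := (hgood ⟨x⁻¹ * h * x, hxH⟩ hcon).2 x ?_
        · apply hr1
          symm
          rw [QuotientGroup.eq]
          simpa using hg
        · intro q hq
          refine ⟨hfix x (by simpa using hr2) q hq, ?_⟩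
          have hq' := Subgroup.mem_centralizer_iff.mp hC q hq
          show x⁻¹ * q * x * (x⁻¹ * h * x) = x⁻¹ * h * x * (x⁻¹ * q * x)
          calc x⁻¹ * q * x * (x⁻¹ * h * x) = x⁻¹ * (q * (h : G)) * x := by group
            _ = x⁻¹ * ((h : G) * q) * x := by rw [hq']
            _ = _ := by group
    have e2 : ∑ q : G ⧸ H, (incl H (y : GA H)).coeff (q.out⁻¹ * (h : G) * q.out) - (y : GA H).coeff h =
        (∑ r, f r - ((y : GA H).coeff h + ∑ r ∈ (Finset.univ.filter (fun r : G ⧸ H => ∀ q : Q, q • r = r)).erase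
        (QuotientGroup.mk 1), f r)) + ∑ r ∈ (Finset.univ.filter (fun r : G ⧸ H => ∀ q : Q, q • r = r)).erase
        (QuotientGroup.mk 1), f r := by
      simp only [f]
      ring
    rw [e2]
    exact memLocalIdeal_add key hrest
  · rw [coeff_res_of_notMem _ hC, zero_sub]
    apply memLocalIdeal_neg
    by_contra hcon
    exact hC (hgood h hcon).1

end Cfsg.Agent.Lib.BlockCoverN.Lift
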