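import Mathlib
import Cfsg.Agent.Lib.BlockCoverN.Lift
import Cfsg.Agent.Lib.Blocks.Cover2

/-!
# Coefficients of the idempotent of a block of `N_G(Q)` covering a block with defect group `Q`

`good_of_covers`: if `c` is a block of `N_G(Q)` covering a block of `N ∩ N_G(Q)` with defect group `Q`, the
coefficients of the idempotent of `c` outside the local ideal satisfy the hypothesis of `Lift.lift_trC`.
`eq_of_covers`: such a `c` is determined among all blocks of `N_G(Q)` by the block of `G` it induces.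
-/

set_option linter.unusedSectionVars false
set_option autoImplicit false
set_option linter.style.haveILetI false

namespace Cfsg.Agent.Lib.BlockCoverN.Good

open Cfsg MonoidAlgebra
open Cfsg.Agent.Lib.Blocks.Local Cfsg.Agent.Lib.Blocks.Central Cfsg.Agent.Lib.Blocks.Brauer
open Cfsg.Agent.Lib.Blocks.Induced Cfsg.Agent.Lib.Blocks.FR Cfsg.Agent.Lib.Blocks.FMT
open Cfsg.Agent.Lib.Blocks.Defect Cfsg.Agent.Lib.Blocks.Defect2 Cfsg.Agent.Lib.Blocks.Inducing
open Cfsg.Agent.Lib.Blocks.Cover2 Cfsg.Agent.Lib.BlockCoverN.Lift Cfsg.Agent.Lib.Blocks.Main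

universe u

variable {G : Type u} [Group G] [Fintype G] {M : Ideal AlgInt} {p : ℕ} [hp : Fact p.Prime]
  {N : Subgroup G} [hN : N.Normal] {Q : Subgroup G} [Fintype (IrrCharacter G)]
  [Fintype (Subgroup.normalizer (Q : Set G))]
  [Fintype (N.subgroupOf (Subgroup.normalizer (Q : Set G)))]
  [Fintype (IrrCharacter (Subgroup.normalizer (Q : Set G)))]
  [Fintype (IrrCharacter (N.subgroupOf (Subgroup.normalizer (Q : Set G))))]

/-- The main lemma on coefficients. -/
theorem good_of_covers (hM : IsPModular p M) (hpg : IsPGroup p Q) (hQN : Q ≤ N)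
    {c : Set (IrrCharacter (Subgroup.normalizer (Q : Set G)))} (hc : IsPBlock M c)
    {eY : Set (IrrCharacter (N.subgroupOf (Subgroup.normalizer (Q : Set G))))} (heY : IsPBlock M eY)
    {QY : Subgroup (N.subgroupOf (Subgroup.normalizer (Q : Set G)))} (hQY : IsDefectGroup p M eY QY)
    (hcard : Nat.card QY = Nat.card Q)
    (hcov : ∃ ψ ∈ c, ∃ ξ ∈ eY, classInner
      (fun n : N.subgroupOf (Subgroup.normalizer (Q : Set G)) => (ψ : Subgroup.normalizer (Q : Set G) → ℂ) n)
      (ξ : N.subgroupOf (Subgroup.normalizer (Q : Set G)) → ℂ) ≠ 0)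
    {k : Subgroup.normalizer (Q : Set G)} (hk : ¬ MemLocalIdeal M (blockCoeff c k)) :
    (k : G) ∈ Subgroup.centralizer (Q : Set G) ∧
      ∀ x : G, (∀ q ∈ Q, x⁻¹ * q * x ∈ Subgroup.normalizer (Q : Set G) ∧
        (x⁻¹ * q * x) * (k : G) = (k : G) * (x⁻¹ * q * x)) → x ∈ Subgroup.normalizer (Q : Set G) := by
  classical
  haveI := isPrime_of_pModular hM
  have hP := isBrauerPair_normalizer hpg
  have hY : (N.subgroupOf (Subgroup.normalizer (Q : Set G))).Normal := Subgroup.Normal.subgroupOf hN _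
  have hkC : (k : G) ∈ Subgroup.centralizer (Q : Set G) := by
    by_contra hcon
    apply hk
    rw [Cfsg.Agent.Lib.BlockH.Idem.blockCoeff_eq_zero_of_not_mem_centralizer hM _ hP.normal hP.isP' hc
      (fun h => hcon ((hP.mem_centralizer_iff k).mp h))]
    exact memLocalIdeal_zero
  refine ⟨hkC, fun x hx => ?_⟩
  -- the conjugate of `Q`
  set Q₁ : Subgroup G := Q.map (MulAut.conj x⁻¹).toMonoidHom with hQ₁
  have hmem : ∀ q ∈ Q, x⁻¹ * q * x ∈ Q₁ := by
    intro q hq
    refine ⟨q, hq, ?_⟩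
    simp
  have hmem' : ∀ z ∈ Q₁, ∃ q ∈ Q, z = x⁻¹ * q * x := by
    rintro _ ⟨q, hq, rfl⟩
    exact ⟨q, hq, by simp⟩
  have hQ₁H : Q₁ ≤ Subgroup.normalizer (Q : Set G) := by
    intro z hz
    obtain ⟨q, hq, rfl⟩ := hmem' z hz
    exact (hx q hq).1
  have hQ₁p : IsPGroup p Q₁ := hpg.map _
  have hRp : IsPGroup p (Q₁ ⊔ Q : Subgroup G) := IsPGroup.to_sup_of_normal_right' hQ₁p hpg hQ₁H
  have hRH : (Q₁ ⊔ Q : Subgroup G) ≤ Subgroup.normalizer (Q : Set G) :=
    sup_le hQ₁H (le_normalizer_self Q)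
  have hRN : (Q₁ ⊔ Q : Subgroup G) ≤ N := by
    refine sup_le ?_ hQN
    intro z hz
    obtain ⟨q, hq, rfl⟩ := hmem' z hz
    have := hN.conj_mem q (hQN hq) x⁻¹
    simpa using this
  have hRk : (Q₁ ⊔ Q : Subgroup G) ≤ Subgroup.centralizer ({(k : G)} : Set G) := by
    refine sup_le ?_ ?_
    · intro z hz
      obtain ⟨q, hq, rfl⟩ := hmem' z hz
      rw [Subgroup.mem_centralizer_singleton_iff]
      exact (hx q hq).2
    · intro q hq
      rw [Subgroup.mem_centralizer_singleton_iff]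
      exact Subgroup.mem_centralizer_iff.mp hkC q hq
  set R : Subgroup (Subgroup.normalizer (Q : Set G)) :=
    (Q₁ ⊔ Q : Subgroup G).subgroupOf (Subgroup.normalizer (Q : Set G)) with hR
  have hRpH : IsPGroup p R := hRp.comap_of_injective _ (Subgroup.subtype_injective _)
  have hRkH : R ≤ Subgroup.centralizer ({k} : Set (Subgroup.normalizer (Q : Set G))) := by
    intro r hr
    have := hRk (Subgroup.mem_subgroupOf.mp hr)
    rw [Subgroup.mem_centralizer_singleton_iff] at this ⊢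
    exact Subtype.ext this
  obtain ⟨D, hD⟩ := exists_isDefectGroup (p := p) hc
  obtain ⟨y, hy, hs⟩ := isDefectGroup_isSylowIn hD
  obtain ⟨θ, hθ⟩ := isPBlock_nonempty hc
  obtain ⟨v, hv⟩ := minmax_le hM hc hθ (hy.2.2 θ hθ) hk hs hRpH hRkH
  have hD' := isDefectGroup_conj hD v
  have hle := card_inf_le hM hc heY hcov hQY hD'
  have hRle : R ≤ D.map (MulAut.conj v).toMonoidHom ⊓ N.subgroupOf (Subgroup.normalizer (Q : Set G)) :=
    le_inf hv (fun r hr => Subgroup.mem_subgroupOf.mpr (hRN (Subgroup.mem_subgroupOf.mp hr)))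
  have hc1 : Nat.card R ≤ Nat.card Q := by
    rw [← hcard]
    exact (Subgroup.card_le_of_le hRle).trans hle
  have hc2 : Nat.card R = Nat.card (Q₁ ⊔ Q : Subgroup G) :=
    Nat.card_congr (Subgroup.subgroupOfEquivOfLe hRH).toEquiv
  have hQeq : Q = Q₁ ⊔ Q := Subgroup.eq_of_le_of_card_ge le_sup_right (by rwa [← hc2])
  have hQ₁Q : Q₁ ≤ Q := by
    rw [hQeq]
    exact le_sup_left
  have hc3 : Nat.card Q₁ = Nat.card Q := Nat.card_congr
    (Subgroup.equivMapOfInjective Q _ (MulAut.conj x⁻¹).injective).toEquiv.symm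
  have hQ₁eq : Q₁ = Q := Subgroup.eq_of_le_of_card_ge hQ₁Q hc3.ge
  have hinv : x⁻¹ ∈ Subgroup.normalizer (Q : Set G) := by
    rw [Subgroup.mem_normalizer_iff]
    intro q
    constructor
    · intro hq
      have := hQ₁Q (hmem q hq)
      simpa using this
    · intro hq
      have hq1 : x⁻¹ * q * x⁻¹⁻¹ ∈ Q₁ := by rw [hQ₁eq]; exact hq
      obtain ⟨q', hq', he⟩ := hmem' _ hq1
      have : q = q' := by
        have h2 : x⁻¹ * q * x = x⁻¹ * q' * x := by simpa using he
        simpa using h2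
      rw [this]
      exact hq'
  simpa using (Subgroup.normalizer (Q : Set G)).inv_mem hinv

/-- A block of `N_G(Q)` covering a block with defect group `Q` is determined by the block it induces. -/
theorem eq_of_covers (hM : IsPModular p M) (hpg : IsPGroup p Q) (hQN : Q ≤ N)
    {c : Set (IrrCharacter (Subgroup.normalizer (Q : Set G)))} (hc : IsPBlock M c)
    {eY : Set (IrrCharacter (N.subgroupOf (Subgroup.normalizer (Q : Set G))))} (heY : IsPBlock M eY)
    {QY : Subgroup (N.subgroupOf (Subgroup.normalizer (Q : Set G)))} (hQY : IsDefectGroup p M eY QY)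
    (hcard : Nat.card QY = Nat.card Q)
    (hcov : ∃ ψ ∈ c, ∃ ξ ∈ eY, classInner
      (fun n : N.subgroupOf (Subgroup.normalizer (Q : Set G)) => (ψ : Subgroup.normalizer (Q : Set G) → ℂ) n)
      (ξ : N.subgroupOf (Subgroup.normalizer (Q : Set G)) → ℂ) ≠ 0)
    {c₂ : Set (IrrCharacter (Subgroup.normalizer (Q : Set G)))}
    {B : Set (IrrCharacter G)} (hind₁ : IsInducedBlock M _ c B) (hind₂ : IsInducedBlock M _ c₂ B) :
    c = c₂ := by
  classical
  haveI := isPrime_of_pModular hM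
  have hP := isBrauerPair_normalizer hpg
  letI : Fintype (G ⧸ Subgroup.normalizer (Q : Set G)) := Fintype.ofFinite _
  have hy := idem_mem_localCenter hc
  have hJ := lift_trC hM hP hy (fun k hk => good_of_covers hM hpg hQN hc heY hQY hcard hcov (by
    simpa using hk))
  have hz := trC_mem_localCenter hy
  obtain ⟨χ, hχ⟩ := isPBlock_nonempty hind₁.2.1
  obtain ⟨ξ₁, hξ₁⟩ := isPBlock_nonempty hc
  obtain ⟨ξ₂, hξ₂⟩ := isPBlock_nonempty hind₂.1
  have h1 := omegaHom_sub_mem_of_lift hM hP hz hJ hχ hind₁ hξ₁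
  have h2 := omegaHom_sub_mem_of_lift hM hP hz hJ hχ hind₂ hξ₂
  rw [omegaHom_idem, if_pos hξ₁] at h1
  by_contra hne
  have hξ₂' : ξ₂ ∉ c := fun h => hne (isPBlock_mem_unique hc hind₂.1 h hξ₂)
  rw [omegaHom_idem, if_neg hξ₂'] at h2
  apply one_notMemLocalIdeal (M := M)
  have := memLocalIdeal_sub h1 h2
  simpa using this

end Cfsg.Agent.Lib.BlockCoverN.Good
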