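import Mathlib
import Cfsg.Agent.Lib.BlockCoverN.Good
import Cfsg.Agent.Lib.BlockH.Transport
import Cfsg.Agent.Lib.BlockH.Defects

/-!
# The three copies of `N_N(Q)`, and transport of induced blocks

* `tau`: `N ∩ N_G(Q)`, as a subgroup of `N_G(Q)`, is `N_N(Q)`, as a subgroup of `N`.
* `phi`: the same with `N_G(Q) ⊓ N`, as a subgroup of `G`.
* `isInducedBlock_map`: block induction is preserved by compatible isomorphisms.
* `isInducedBlock_of_in`: the form of the hypothesis in which the induction is computed inside `N`.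
-/

set_option linter.unusedSectionVars false
set_option autoImplicit false
set_option linter.style.haveILetI false

namespace Cfsg.Agent.Lib.BlockCoverN.Tau

open Cfsg MonoidAlgebra
open Cfsg.Agent.Lib.BlockH.Transport

universe u

section Copies

variable {G : Type u} [Group G] {N Q : Subgroup G}

theorem mem_LN_iff (hQN : Q ≤ N) (n : N) :
    n ∈ Subgroup.normalizer ((Q.subgroupOf N : Subgroup N) : Set N) ↔
      (n : G) ∈ Subgroup.normalizer (Q : Set G) := by
  rw [Subgroup.mem_normalizer_iff, Subgroup.mem_normalizer_iff]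
  constructor
  · intro h q
    by_cases hq : q ∈ N
    · have := h ⟨q, hq⟩
      simpa [Subgroup.mem_subgroupOf] using this
    · have h1 : q ∉ Q := fun h => hq (hQN h)
      have h2 : (n : G) * q * (n : G)⁻¹ ∉ Q := fun h => hq (by
        have h3 := hQN h
        have h4 := N.mul_mem (N.mul_mem (N.inv_mem n.2) h3) n.2
        simpa [mul_assoc] using h4)
      simp [h1, h2]
  · intro h m
    have := h (m : G)
    simpa [Subgroup.mem_subgroupOf] using this

/-- `N ∩ N_G(Q)` in `N_G(Q)` and `N_N(Q)` in `N`. -/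
def tau (hQN : Q ≤ N) : N.subgroupOf (Subgroup.normalizer (Q : Set G)) ≃*
    Subgroup.normalizer ((Q.subgroupOf N : Subgroup N) : Set N) where
  toFun y := ⟨⟨y.1.1, y.2⟩, (mem_LN_iff hQN _).mpr y.1.2⟩
  invFun l := ⟨⟨l.1.1, (mem_LN_iff hQN _).mp l.2⟩, l.1.2⟩
  left_inv _ := rfl
  right_inv _ := rfl
  map_mul' _ _ := rfl

@[simp] theorem coe_tau (hQN : Q ≤ N) (y : N.subgroupOf (Subgroup.normalizer (Q : Set G))) :
    (((tau hQN y : Subgroup.normalizer ((Q.subgroupOf N : Subgroup N) : Set N)) : N) : G) = ((y : _) : G) := rfl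

@[simp] theorem coe_tau_symm (hQN : Q ≤ N) (l : Subgroup.normalizer ((Q.subgroupOf N : Subgroup N) : Set N)) :
    (((tau hQN).symm l : N.subgroupOf (Subgroup.normalizer (Q : Set G))) : Subgroup.normalizer (Q : Set G)).1 =
      (l : N) := rfl

/-- `N_G(Q) ⊓ N` in `G` and `N ∩ N_G(Q)` in `N_G(Q)`. -/
def phi : ((Subgroup.normalizer (Q : Set G) ⊓ N : Subgroup G)) ≃*
    N.subgroupOf (Subgroup.normalizer (Q : Set G)) where
  toFun l := ⟨⟨l.1, l.2.1⟩, l.2.2⟩
  invFun y := ⟨y.1.1, y.1.2, y.2⟩
  left_inv _ := rfl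
  right_inv _ := rfl
  map_mul' _ _ := rfl

@[simp] theorem coe_phi (l : (Subgroup.normalizer (Q : Set G) ⊓ N : Subgroup G)) :
    (((phi l : N.subgroupOf (Subgroup.normalizer (Q : Set G))) : Subgroup.normalizer (Q : Set G)) : G) = l := rfl

@[simp] theorem coe_phi_symm (y : N.subgroupOf (Subgroup.normalizer (Q : Set G))) :
    ((phi.symm y : (Subgroup.normalizer (Q : Set G) ⊓ N : Subgroup G)) : G) = ((y : _) : G) := rfl

end Copies

section Transport

variable {G G' : Type u} [Group G] [Group G'] {M : Ideal AlgInt}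

theorem inducedCentralChar_map {K : Subgroup G} {K' : Subgroup G'} (σ : G ≃* G') (σK : K ≃* K')
    (hcompat : ∀ k : K, ((σK k : K') : G') = σ k) (ξ : IrrCharacter K) (g' : G') :
    inducedCentralChar K' (irrMap σK ξ : K' → ℂ) g' = inducedCentralChar K (ξ : K → ℂ) (σ.symm g') := by
  have hc' : ∀ k : K', ((σK.symm k : K) : G) = σ.symm k := by
    intro k
    apply σ.injective
    rw [← hcompat]
    simp
  unfold inducedCentralChar
  refine finsum_mem_eq_of_bijOn σK.symm ⟨?_, ?_, ?_⟩ ?_
  · intro k hk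
    change IsConj _ _
    rw [hc']
    exact MonoidHom.map_isConj σ.symm.toMonoidHom hk
  · exact fun a _ b _ h => σK.symm.injective h
  · intro k hk
    refine ⟨σK k, ?_, by simp⟩
    change IsConj g' ((σK k : K') : G')
    rw [hcompat]
    have := MonoidHom.map_isConj σ.toMonoidHom (show IsConj (σ.symm g') (k : G) from hk)
    simpa using this
  · intro k _
    simp only [irrMap_apply, map_one]

/-- Block induction is preserved by compatible isomorphisms. -/
theorem isInducedBlock_map {K : Subgroup G} {K' : Subgroup G'} (σ : G ≃* G') (σK : K ≃* K')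
    (hcompat : ∀ k : K, ((σK k : K') : G') = σ k) {b : Set (IrrCharacter K)} {B : Set (IrrCharacter G)}
    (h : IsInducedBlock M K b B) : IsInducedBlock M K' (blockMap σK b) (blockMap σ B) := by
  refine ⟨isPBlock_blockMap _ h.1, isPBlock_blockMap _ h.2.1, ?_⟩
  rintro _ ⟨ξ, hξ, rfl⟩ _ ⟨χ, hχ, rfl⟩ g'
  rw [inducedCentralChar_map σ σK hcompat]
  have : centralChar (irrMap σ χ : G' → ℂ) g' = centralChar (χ : G → ℂ) (σ.symm g') :=
    centralChar_comp σ.symm (χ : G → ℂ) g'
  rw [this]
  exact h.2.2 ξ hξ χ hχ _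

end Transport

section In

variable {G : Type u} [Group G] {N Q : Subgroup G} {M : Ideal AlgInt}

/-- The induced central character computed inside `N`. -/
theorem inducedCentralChar_tau (hQN : Q ≤ N) (ξ : IrrCharacter (Subgroup.normalizer (Q : Set G) ⊓ N : Subgroup G))
    (n : N) :
    inducedCentralChar (Subgroup.normalizer ((Q.subgroupOf N : Subgroup N) : Set N))
        (irrMap (phi.trans (tau hQN)) ξ : _ → ℂ) n =
      inducedCentralCharIn N (Subgroup.normalizer (Q : Set G) ⊓ N) (ξ : _ → ℂ) (n : G) := by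
  unfold inducedCentralChar inducedCentralCharIn
  refine finsum_mem_eq_of_bijOn (phi.trans (tau hQN)).symm ⟨?_, ?_, ?_⟩ ?_
  · intro k hk
    obtain ⟨c, hc⟩ := isConj_iff.mp (show IsConj n (k : N) from hk)
    refine ⟨c⁻¹, ?_⟩
    change ((c⁻¹ : N) : G) * (((k : _) : N) : G) * ((c⁻¹ : N) : G)⁻¹ = n
    rw [← hc]
    simp only [Subgroup.coe_mul, InvMemClass.coe_inv]
    group
  · exact fun a _ b _ h => (phi.trans (tau hQN)).symm.injective h
  · rintro k ⟨x, hx⟩
    refine ⟨(phi.trans (tau hQN)) k, ?_, by simp⟩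
    change IsConj n (((phi.trans (tau hQN)) k : _) : N)
    refine isConj_iff.mpr ⟨x⁻¹, ?_⟩
    apply Subtype.ext
    change ((x⁻¹ : N) : G) * (n : G) * ((x⁻¹ : N) : G)⁻¹ = (k : G)
    rw [← hx]
    simp only [InvMemClass.coe_inv]
    group
  · intro k _
    simp only [irrMap_apply, map_one]

theorem isInducedBlock_of_in (hQN : Q ≤ N)
    {e : Set (IrrCharacter (Subgroup.normalizer (Q : Set G) ⊓ N : Subgroup G))} {d : Set (IrrCharacter N)}
    (hed : IsInducedBlockIn M N (Subgroup.normalizer (Q : Set G) ⊓ N) e d) :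
    IsInducedBlock M (Subgroup.normalizer ((Q.subgroupOf N : Subgroup N) : Set N))
      (blockMap (phi.trans (tau hQN)) e) d := by
  refine ⟨isPBlock_blockMap _ hed.1, hed.2.1, ?_⟩
  rintro _ ⟨ξ, hξ, rfl⟩ χ hχ n
  rw [inducedCentralChar_tau hQN]
  exact hed.2.2 ξ hξ χ hχ n

end In

end Cfsg.Agent.Lib.BlockCoverN.Tau
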